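import Cfsg.Agent.H388.RI.FiW
import Cfsg.Agent.H388.RI.Two
import Cfsg.Agent.H388.RI.Use
import Cfsg.Agent.Schreier.FiTwentyFour
import Cfsg.Agent.H315.RIM.J2Five
import Cfsg.Agent.H620.RIM.Mult

/-!
# S4816: the rows of `Fi24'`, `p = 5, 11, 13, 17, 23, 29`, module side (helper388)

* `noPEx_fi24`, `ek_fi24`.
-/

set_option autoImplicit false
set_option exponentiation.threshold 4000

namespace Cfsg.Agent.H388.RI.FiRow

open Cfsg Subgroup MulAction Cfsg.Agent.Schreier.CocodeSys Cfsg.Agent.H388.RI.FiW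
open Cfsg.Agent.Schreier.FiTwentyFour (sys e d simple card_eq finite not_comm)

universe u

theorem perf : commutator Cfsg.Spor.Fi24' = ⊤ := by
  have := simple
  rcases (inferInstance : (commutator Cfsg.Spor.Fi24').Normal).eq_bot_or_eq_top with h1 | h1
  · exfalso
    apply not_comm
    refine ⟨⟨fun a b => ?_⟩⟩
    have h2 : a * b * a⁻¹ * b⁻¹ ∈ commutator Cfsg.Spor.Fi24' := commutator_mem_commutator (mem_top a) (mem_top b)
    rw [h1, mem_bot, mul_inv_eq_one, mul_inv_eq_iff_eq_mul] at h2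
    exact h2
  · exact h1

/-- an element of order 5 of `M24` fixing a point -/
theorem exists_five : ∃ g : M24, orderOf g = 5 ∧ g • (none : GolayPt) = none := by
  classical
  have h5 : Fact (Nat.Prime 5) := ⟨by norm_num⟩
  have hdvd : 5 ∣ Nat.card M24 := by rw [Cfsg.Agent.S0364.result]; norm_num
  obtain ⟨g, hg⟩ := exists_prime_orderOf_dvd_card' 5 hdvd
  have hP : IsPGroup 5 (zpowers g) := by
    rw [IsPGroup.iff_card]
    exact ⟨1, by rw [Nat.card_zpowers, hg, pow_one]⟩
  have h24 : Nat.card GolayPt = 24 := by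
    rw [Nat.card_eq_fintype_card]; decide
  have h1 := hP.card_modEq_card_fixedPoints GolayPt
  rw [h24] at h1
  have h2 : Nat.card (fixedPoints (zpowers g) GolayPt) ≠ 0 := by
    intro h0
    rw [h0] at h1
    exact absurd h1 (by decide)
  obtain ⟨⟨s, hs⟩⟩ := (Nat.card_ne_zero.1 h2).1
  have hgs : g • s = s := hs ⟨g, mem_zpowers g⟩
  obtain ⟨h, hh, hhs⟩ := Cfsg.Agent.H852.GolayMod.exists_perm (n := 1) (by norm_num) ![s] ![none]
    (by intro i j _; exact Subsingleton.elim _ _) (by intro i j _; exact Subsingleton.elim _ _)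
  have hhs' : (⟨h, hh⟩ : M24) • s = none := hhs 0
  refine ⟨⟨h, hh⟩ * g * (⟨h, hh⟩ : M24)⁻¹, ?_, ?_⟩
  · have h3 : orderOf (⟨h, hh⟩ * g * (⟨h, hh⟩ : M24)⁻¹) = orderOf g := by
      exact (MulAut.conj (⟨h, hh⟩ : M24)).orderOf_eq g
    rw [h3, hg]
  · rw [← hhs', mul_smul, mul_smul, inv_smul_smul, hgs]

section gen

variable {K : Type*} [Group K] {e : GolayPt → K}

theorem conj_pow {n : K} {g : M24} (hn : ∀ p, n * e p * n⁻¹ = e (g • p)) (j : ℕ) (p : GolayPt) :
    n ^ j * e p * (n ^ j)⁻¹ = e (g ^ j • p) := by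
  induction j generalizing p with
  | zero => simp
  | succ j ih =>
    rw [pow_succ, pow_succ, mul_smul]
    have h1 : n ^ j * n * e p * (n ^ j * n)⁻¹ = n ^ j * (n * e p * n⁻¹) * (n ^ j)⁻¹ := by group
    rw [h1, hn, ih]

/-- a `5`-element acting nontrivially on the system -/
theorem exists_x [Finite K] (Y : Sys e) : ∃ (x : K) (t : ℕ) (q q' : GolayPt), q' ≠ q ∧ orderOf x = 5 ^ t ∧
    x * e q * x⁻¹ * (e q)⁻¹ = e q' * e q := by
  obtain ⟨g, hg5, hg⟩ := exists_five
  obtain ⟨n, hn⟩ := Y.full g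
  have hn' : ∀ p, n * e p * n⁻¹ = e (g • p) := by
    intro p
    have h1 : n * e p * n⁻¹ = e (g • p) * e (g • none) := hn p
    rw [h1, hg, Y.zero, mul_one]
  obtain ⟨j, hj, t, ht⟩ := exists_p_part (n := n) (by norm_num : Nat.Prime 5)
  have hgj : g ^ j ≠ 1 := by
    intro h1
    have h3 := orderOf_dvd_of_pow_eq_one h1
    rw [hg5] at h3
    exact hj h3
  obtain ⟨q, hq⟩ : ∃ q : GolayPt, g ^ j • q ≠ q := by
    by_contra hcon
    push Not at hcon
    apply hgj
    apply Subtype.ext
    apply Equiv.ext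
    exact hcon
  refine ⟨n ^ j, t, q, g ^ j • q, hq, ht, ?_⟩
  rw [conj_pow hn' j q, inv_eq_of_mul_eq_one_right (Y.sq q)]

end gen

/-- **The row.** -/
theorem fi_false {V : Type*} [AddCommGroup V] [Finite V] [DistribMulAction Cfsg.Spor.Fi24' V] {p : ℕ} (hp : p.Prime)
    (hd : p = 5 ∨ p = 11 ∨ p = 13 ∨ p = 17 ∨ p = 23 ∨ p = 29) (hV : ∀ v : V, p • v = 0)
    (hf : ∀ h : Cfsg.Spor.Fi24', (∀ v : V, h • v = v) → h = 1)
    (h0 : ∀ v : V, (∀ g : Cfsg.Spor.Fi24', g • v = v) → v = 0)
    (hfix : ∀ v : V, ¬ p ∣ (stabilizer Cfsg.Spor.Fi24' v).index) : False := by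
  classical
  have hsim := simple
  have hfin := finite
  obtain ⟨k, _, hk, _, W, _, _, _, ρ, hW, hρ1, hρ⟩ := Cfsg.Agent.H887.RIM.exists_lin (H := Cfsg.Spor.Fi24') hp hV
  have h2 : (2 : k) ≠ 0 := by
    intro h
    have h3 : ((2 : ℕ) : k) = 0 := by exact_mod_cast h
    have h4 := (CharP.cast_eq_zero_iff k p 2).1 h3
    have h5 := Nat.le_of_dvd (by norm_num) h4
    omega
  have hne : ρ (e (some 0)) ≠ 1 := by
    intro h
    have h3 := hf _ ((hρ1 _).1 h)
    have h4 : e (some 0) = e none := by rw [h3, sys.zero]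
    exact absurd (sys.inj h4) (by decide)
  have hker : (MonoidHom.id Cfsg.Spor.Fi24').ker = ⊥ := by
    ext x
    rw [MonoidHom.mem_ker, mem_bot, MonoidHom.id_apply]
  have hcen : (MonoidHom.id Cfsg.Spor.Fi24').ker ≤ center Cfsg.Spor.Fi24' := by rw [hker]; exact bot_le
  have hkp : ¬ p ∣ Nat.card (MonoidHom.id Cfsg.Spor.Fi24').ker := by
    rw [hker, Subgroup.card_bot, Nat.dvd_one]
    exact hp.ne_one
  have hmain := main (ρ := ρ) h2 sys hne
  have hD : p ^ 759 ≤ Nat.card V := by
    rw [hW]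
    apply Nat.pow_le_pow_right hp.pos
    rcases hmain with h | h
    · exact card_oct h2 h
    · exact (card_dod h2 h).trans' (by norm_num)
  rcases hd with rfl | rfl | rfl | rfl | rfl | rfl
  · rcases hmain with h | h
    · -- octads
      obtain ⟨x, t, q, q', hq, ht, h4⟩ := exists_x sys
      have h5 := comm_codim (π := MonoidHom.id Cfsg.Spor.Fi24') (N := 1255205709190661721292800 / 25) (a := 2) (c := 32) hp
        Function.surjective_id hcen hkp (by norm_num) (by rw [card_eq]; norm_num) hV hfix (by norm_num) ht (e q) ρ hW hρ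
      rw [h4] at h5
      have h6 := codim_pair (ρ := ρ) h2 h hq
      omega
    · have hD' : 5 ^ 1288 ≤ Nat.card V := by
        rw [hW]
        exact Nat.pow_le_pow_right (by norm_num) (card_dod h2 h)
      exact chain (π := MonoidHom.id Cfsg.Spor.Fi24') (N := 1255205709190661721292800 / 25) (a := 2) (c := 32) (k := 30) hp perf
        Function.surjective_id hcen hkp (by norm_num) (by norm_num) (by rw [card_eq]; norm_num) hV h0 hfix (by norm_num)
        (by norm_num) hD' (by norm_num)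
  · exact chain (π := MonoidHom.id Cfsg.Spor.Fi24') (N := 1255205709190661721292800 / 11) (a := 1) (c := 22) (k := 23) hp
      perf Function.surjective_id hcen hkp (by norm_num) (by norm_num) (by rw [card_eq]; norm_num) hV h0 hfix (by norm_num)
      (by norm_num) hD (by norm_num)
  · exact chain (π := MonoidHom.id Cfsg.Spor.Fi24') (N := 1255205709190661721292800 / 13) (a := 1) (c := 22) (k := 23) hp
      perf Function.surjective_id hcen hkp (by norm_num) (by norm_num) (by rw [card_eq]; norm_num) hV h0 hfix (by norm_num)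
      (by norm_num) hD (by norm_num)
  · exact chain (π := MonoidHom.id Cfsg.Spor.Fi24') (N := 1255205709190661721292800 / 17) (a := 1) (c := 22) (k := 23) hp
      perf Function.surjective_id hcen hkp (by norm_num) (by norm_num) (by rw [card_eq]; norm_num) hV h0 hfix (by norm_num)
      (by norm_num) hD (by norm_num)
  · exact chain (π := MonoidHom.id Cfsg.Spor.Fi24') (N := 1255205709190661721292800 / 23) (a := 1) (c := 22) (k := 23) hp
      perf Function.surjective_id hcen hkp (by norm_num) (by norm_num) (by rw [card_eq]; norm_num) hV h0 hfix (by norm_num)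
      (by norm_num) hD (by norm_num)
  · exact chain (π := MonoidHom.id Cfsg.Spor.Fi24') (N := 1255205709190661721292800 / 29) (a := 1) (c := 22) (k := 23) hp
      perf Function.surjective_id hcen hkp (by norm_num) (by norm_num) (by rw [card_eq]; norm_num) hV h0 hfix (by norm_num)
      (by norm_num) hD (by norm_num)

/-- **`Fi24'`, module side.** -/
theorem noPEx_fi24 {S : Type u} [Group S] (h : Cfsg.Spor.IsoFi24' S) {p : ℕ} (hp : p.Prime)
    (hd : p = 5 ∨ p = 11 ∨ p = 13 ∨ p = 17 ∨ p = 23 ∨ p = 29) : Cfsg.Agent.H665.RIM.NoPEx.{u} p S := by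
  obtain ⟨f⟩ := h
  intro V _ _ _ hV hnt hf hirr hfix
  let _ : DistribMulAction Cfsg.Spor.Fi24' V := DistribMulAction.compHom V f.symm.toMonoidHom
  have hsm : ∀ (g : Cfsg.Spor.Fi24') (v : V), g • v = f.symm g • v := fun g v => rfl
  have hS : Nontrivial S := by
    have := simple.toNontrivial
    exact f.toEquiv.nontrivial
  refine fi_false hp hd hV ?_ ?_ ?_
  · intro g hg
    have h1 := hf (f.symm g) fun v => hg v
    rw [← f.apply_symm_apply g, h1, map_one]
  · intro v hv
    refine fixed_eq_zero hf hirr v fun g => ?_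
    have h1 := hv (f g)
    rw [hsm, f.symm_apply_apply] at h1
    exact h1
  · intro v
    have h1 : (stabilizer S v).comap f.symm.toMonoidHom = stabilizer Cfsg.Spor.Fi24' v := by
      ext g
      rw [mem_comap, mem_stabilizer_iff, mem_stabilizer_iff]
      rfl
    rw [← h1, index_comap_of_surjective _ f.symm.surjective]
    exact hfix v

/-- **`Fi24'`, `p = 5, 11, 13, 17, 23, 29`.** -/
theorem ek_fi24 {S : Type u} [Group S] [Finite S] (h : Cfsg.Spor.IsoFi24' S) {p : ℕ} (hp : p.Prime)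
    (hd : p = 5 ∨ p = 11 ∨ p = 13 ∨ p = 17 ∨ p = 23 ∨ p = 29) : Cfsg.Agent.H665.RIM.EK.{u} p S := by
  refine Cfsg.Agent.H315.RIM.ek_of_noPEx ?_ (noPEx_fi24 h hp hd)
  intro E _ _ π hπ hc hperf _
  have h1 := Cfsg.Agent.H620.RIM.dvd_fi24.{u} h E π hπ hc hperf
  rcases (Nat.dvd_prime Nat.prime_three).1 h1 with h2 | h2
  · exact Or.inl h2
  · right
    rw [h2]
    exact Nat.prime_three

end Cfsg.Agent.H388.RI.FiRow
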